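import Groth.Agent.Cohder.RDAcyc
import Groth.Agent.Etbase.ExtCompare
import Groth.Agent.Etrest.HpullAcyc

/-!
# Truncated Leray comparison for `EtCore.Hpull`

`L ⊣ G` with `L : B ⥤ A` exact, `X : B`.  `Acy X N` says that all `Ext^p(X, N)` vanish.

* `postcomp_bijective_of_ker_coker`: a morphism with `X`-acyclic kernel and cokernel is bijective on all `Ext^p(X, -)`.
* `cmp_counit_range`: if `R^q G (H)` is `X`-acyclic for `1 ≤ q ≤ n`, then `Ext^q(X, G H) → Ext^q(L X, H)` is bijective
  for `q ≤ n` and injective for `q = n + 1`.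
* `mapExact_range`: the same for `Ext^q(X, Y) → Ext^q(L X, L Y)` when the unit at `Y` has `X`-acyclic kernel and cokernel.
* `Hpull_range`: the case of `EtCore.Hpull`; `Hpull_range_of_isIso_unit`: the case where the unit is an isomorphism and
  `R^q f_* f⁻¹ G = 0` for `1 ≤ q ≤ n`.
-/

set_option autoImplicit false
set_option linter.unusedSectionVars false

universe w w' u v v' u'

open CategoryTheory CategoryTheory.Limits CategoryTheory.Abelian AlgebraicGeometry

namespace Groth.Agent.Etbc.H234.LerayRange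

open Groth.Agent.Etbase

section Acy

variable {B : Type u} [Category.{v} B] [Abelian B] [HasExt.{w} B]

/-- All `Ext^p(X, N)` vanish. -/
def Acy (X N : B) : Prop := ∀ p : ℕ, Subsingleton (Ext.{w} X N p)

lemma acy_of_isZero (X : B) {N : B} (h : IsZero N) : Acy.{w} X N := fun p =>
  subsingleton_of_forall_eq 0 fun x => by
    rw [← Ext.comp_mk₀_id x, h.eq_of_src (𝟙 N) 0, Ext.mk₀_zero, Ext.comp_zero]

lemma acy_of_iso {X N N' : B} (e : N ≅ N') (h : Acy.{w} X N) : Acy.{w} X N' := fun p => by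
  have := h p
  refine subsingleton_of_forall_eq 0 fun x => ?_
  have h1 : x.comp (Ext.mk₀ e.inv) (add_zero p) = 0 := Subsingleton.elim _ _
  have h2 := congrArg (fun z => z.comp (Ext.mk₀ e.hom) (add_zero p)) h1
  simpa only [Ext.comp_assoc_of_third_deg_zero, Ext.mk₀_comp_mk₀, Iso.inv_hom_id, Ext.comp_mk₀_id,
    Ext.zero_comp] using h2

lemma postcomp_injective_of_mono_zero (X : B) {M N : B} (a : M ⟶ N) [Mono a] :
    Function.Injective (fun e : Ext.{w} X M 0 => e.comp (Ext.mk₀ a) (add_zero 0)) :=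
  Ext.postcomp_mk₀_injective_of_mono X a

/-- A short exact sequence with acyclic first term. -/
lemma bijective_of_acy_left (X : B) {S : ShortComplex B} (hS : S.ShortExact) (h : Acy.{w} X S.X₁)
    (n : ℕ) : Function.Bijective (fun e : Ext.{w} X S.X₂ n => e.comp (Ext.mk₀ S.g) (add_zero n)) := by
  have := h n
  have := h (n + 1)
  constructor
  · refine (injective_iff_map_eq_zero ((Ext.mk₀ S.g).postcomp X (add_zero n))).2 fun x hx => ?_
    obtain ⟨y, rfl⟩ := Ext.covariant_sequence_exact₂ X hS x hx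
    rw [Subsingleton.elim y 0, Ext.zero_comp]
  · intro x
    obtain ⟨y, hy⟩ := Ext.covariant_sequence_exact₃ X hS x rfl (Subsingleton.elim _ _)
    exact ⟨y, hy⟩

/-- A short exact sequence with acyclic last term. -/
lemma bijective_of_acy_right (X : B) {S : ShortComplex B} (hS : S.ShortExact) (h : Acy.{w} X S.X₃)
    (n : ℕ) : Function.Bijective (fun e : Ext.{w} X S.X₁ n => e.comp (Ext.mk₀ S.f) (add_zero n)) := by
  constructor
  · cases n with
    | zero =>
      have := hS.mono_f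
      exact postcomp_injective_of_mono_zero X S.f
    | succ m =>
      refine (injective_iff_map_eq_zero ((Ext.mk₀ S.f).postcomp X (add_zero (m + 1)))).2
        fun x hx => ?_
      have := h m
      obtain ⟨y, rfl⟩ := Ext.covariant_sequence_exact₁ X hS x hx rfl
      rw [Subsingleton.elim y 0, Ext.zero_comp]
  · intro x
    have := h n
    obtain ⟨y, hy⟩ := Ext.covariant_sequence_exact₂ X hS x (Subsingleton.elim _ _)
    exact ⟨y, hy⟩

lemma shortExact_mono_cokernel {M N : B} (a : M ⟶ N) [Mono a] :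
    (ShortComplex.mk a (cokernel.π a) (cokernel.condition a)).ShortExact :=
  { exact := ShortComplex.exact_cokernel a }

lemma shortExact_kernel_epi {M N : B} (a : M ⟶ N) [Epi a] :
    (ShortComplex.mk (kernel.ι a) a (kernel.condition a)).ShortExact :=
  { exact := ShortComplex.exact_kernel a }

/-- A morphism with acyclic kernel and cokernel is bijective on all `Ext^n(X, -)`. -/
lemma postcomp_bijective_of_ker_coker (X : B) {M N : B} (a : M ⟶ N)
    (hk : Acy.{w} X (kernel a)) (hc : Acy.{w} X (cokernel a)) (n : ℕ) :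
    Function.Bijective (fun e : Ext.{w} X M n => e.comp (Ext.mk₀ a) (add_zero n)) := by
  have e1 : Abelian.factorThruImage a ≫ Abelian.image.ι a = a := Abelian.image.fac a
  have h1 : Function.Bijective (fun e : Ext.{w} X M n =>
      e.comp (Ext.mk₀ (Abelian.factorThruImage a)) (add_zero n)) := by
    refine bijective_of_acy_left X (shortExact_kernel_epi (Abelian.factorThruImage a)) ?_ n
    refine acy_of_iso ?_ hk
    exact (kernelIsoOfEq e1).symm ≪≫ kernelCompMono _ _
  have h2 : Function.Bijective (fun e : Ext.{w} X (Abelian.image a) n =>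
      e.comp (Ext.mk₀ (Abelian.image.ι a)) (add_zero n)) := by
    refine bijective_of_acy_right X (shortExact_mono_cokernel (Abelian.image.ι a)) ?_ n
    refine acy_of_iso ?_ hc
    exact (cokernelIsoOfEq e1).symm ≪≫ cokernelEpiComp _ _
  have h3 := h2.comp h1
  convert h3 using 1
  funext e
  simp only [Function.comp_apply, Ext.comp_assoc_of_third_deg_zero, Ext.mk₀_comp_mk₀, e1]

end Acy

section Abstract

variable {B : Type u} [Category.{v} B] [Abelian B] {A : Type u'} [Category.{v'} A] [Abelian A]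
  [HasInjectiveResolutions A]
  (L : B ⥤ A) [L.Additive] [PreservesFiniteLimits L] [PreservesFiniteColimits L]
  [HasExt.{w} B] [HasExt.{w'} A]

lemma homEquiv_bijective {G : A ⥤ B} (adj : L ⊣ G) (X : B) (F : A) :
    Function.Bijective (fun g : X ⟶ G.obj F => (L.map g ≫ adj.counit.app F : L.obj X ⟶ F)) := by
  have h1 := (adj.homEquiv X F).symm.bijective
  have h2 : ⇑(adj.homEquiv X F).symm =
    (fun g : X ⟶ G.obj F => (L.map g ≫ adj.counit.app F : L.obj X ⟶ F)) := by
    ext g
    exact adj.homEquiv_counit _ _ _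
  rwa [h2] at h1

/-- One step: from degree `q` for the quotient to degree `q + 1`. -/
lemma step {X : B} {Y J Y' : B} {i : Y ⟶ J} {p : J ⟶ Y'} {wB : i ≫ p = 0}
    {F I F' : A} {j : F ⟶ I} {r : I ⟶ F'} {wA : j ≫ r = 0}
    (hS : (ShortComplex.mk i p wB).ShortExact) (hT : (ShortComplex.mk j r wA).ShortExact)
    (e : L.obj Y ⟶ F) (eI : L.obj J ⟶ I) (e' : L.obj Y' ⟶ F')
    (h1 : L.map i ≫ eI = e ≫ j) (h2 : L.map p ≫ e' = eI ≫ r)
    (h3 : Function.Surjective (fun g : X ⟶ J => L.map g ≫ eI))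
    (hJ : Injective J) (hI : Injective I) (q : ℕ)
    (hinj : Function.Injective (ExtCompare.cmp.{w, w'} L X e' q)) :
    Function.Injective (ExtCompare.cmp.{w, w'} L X e (q + 1)) ∧
      (Function.Surjective (ExtCompare.cmp.{w, w'} L X e' q) →
        Function.Surjective (ExtCompare.cmp.{w, w'} L X e (q + 1))) := by
  have a4 : ∀ m : ℕ, Subsingleton (Ext.{w} X J (m + 1)) := fun m =>
    subsingleton_of_forall_eq 0 fun x ↦ Ext.eq_zero_of_injective x
  have a5 : ∀ m : ℕ, Subsingleton (Ext.{w'} (L.obj X) I (m + 1)) := fun m =>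
    subsingleton_of_forall_eq 0 fun x ↦ Ext.eq_zero_of_injective x
  have hsurj : Function.Surjective (ExtCompare.cmp.{w, w'} L X eI q) := by
    cases q with
    | zero =>
      intro y
      obtain ⟨y', rfl⟩ := (Ext.mk₀_bijective _ _).2 y
      obtain ⟨g, rfl⟩ := h3 y'
      exact ⟨Ext.mk₀ g, by rw [ExtCompare.cmp_apply, Ext.mapExactFunctor_mk₀, Ext.mk₀_comp_mk₀]⟩
    | succ m =>
      have := a5 m
      intro y
      exact ⟨0, Subsingleton.elim _ _⟩
  have n1 : ∀ x : Ext.{w} X J q, ExtCompare.cmp L X e' q (x.comp (Ext.mk₀ p) (add_zero q)) =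
      (ExtCompare.cmp L X eI q x).comp (Ext.mk₀ r) (add_zero q) :=
    fun x => ExtCompare.cmp_naturality L X eI e' p r h2 q x
  have n2 : ∀ x : Ext.{w} X Y' q, ExtCompare.cmp L X e (q + 1) (x.comp hS.extClass rfl) =
      (ExtCompare.cmp L X e' q x).comp hT.extClass rfl :=
    fun x => ExtCompare.cmp_extClass L X hS hT e eI e' h1 h2 q x
  refine ⟨?_, ?_⟩
  · refine (injective_iff_map_eq_zero _).2 fun z hz => ?_
    obtain ⟨y, rfl⟩ := Ext.covariant_sequence_exact₁ X hS z
      (have := a4 q; Subsingleton.elim _ _) rfl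
    rw [n2] at hz
    obtain ⟨v, hv⟩ := Ext.covariant_sequence_exact₃ (L.obj X) hT _ rfl hz
    obtain ⟨v', rfl⟩ := hsurj v
    have h5 : ExtCompare.cmp L X e' q (v'.comp (Ext.mk₀ p) (add_zero q)) =
        ExtCompare.cmp L X e' q y := by
      rw [n1]; exact hv
    have h6 := hinj h5
    rw [← h6, Ext.comp_assoc_of_second_deg_zero]
    have h7 : (Ext.mk₀ p).comp hS.extClass (zero_add 1) = 0 := hS.comp_extClass
    rw [h7, Ext.comp_zero]
  · intro hs z
    obtain ⟨y, rfl⟩ := Ext.covariant_sequence_exact₁ (L.obj X) hT z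
      (have := a5 q; Subsingleton.elim _ _) rfl
    obtain ⟨y', rfl⟩ := hs y
    exact ⟨y'.comp hS.extClass rfl, n2 y'⟩

section Comparison

variable {G : A ⥤ B} [G.Additive]

/-- The map from the cokernel of `G X₁ ⟶ G X₂` to `G X₃`. -/
noncomputable def cmap (G : A ⥤ B) [G.Additive] (S : ShortComplex A) :
    cokernel (G.map S.f) ⟶ G.obj S.X₃ :=
  cokernel.desc _ (G.map S.g) (by rw [← G.map_comp, S.zero, G.map_zero])

lemma mono_cmap [PreservesFiniteLimits G] {S : ShortComplex A} (hS : S.ShortExact) :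
    Mono (cmap G S) := by
  have hm := hS.mono_f
  have w0 : G.map S.f ≫ G.map S.g = 0 := by rw [← G.map_comp, S.zero, G.map_zero]
  have hex : (ShortComplex.mk (G.map S.f) (G.map S.g) w0).Exact :=
    hS.exact.map_of_mono_of_preservesKernel G hm inferInstance
  exact hex.mono_cokernelDesc

/-- The cokernel of `cmap` is `R¹G(X₁)` if `X₂` is injective. -/
lemma nonempty_cokernel_cmap_iso [PreservesFiniteLimits G] {S : ShortComplex A}
    (hS : S.ShortExact) [Injective S.X₂] :
    Nonempty (cokernel (cmap G S) ≅ (G.rightDerived 1).obj S.X₁) := by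
  obtain ⟨δ, hδ⟩ := (Cohder.RDLES.exists_les G hS).2.2
  obtain ⟨w₁, w₂, h, h'⟩ := hδ 0
  have h0 : IsZero ((G.rightDerived 1).obj S.X₂) := G.isZero_rightDerived_obj_injective_succ 0 S.X₂
  have hepi : Epi (δ 0) := h'.epi_f (h0.eq_of_tgt _ _)
  have h1 : cokernel ((G.rightDerived 0).map S.g) ≅ (G.rightDerived 1).obj S.X₁ :=
    (cokernelIsCokernel _).coconePointUniqueUpToIso h.gIsCokernel
  have h2 : cokernel ((G.rightDerived 0).map S.g) ≅ cokernel (G.map S.g) :=
    cokernel.mapIso _ _ (G.rightDerivedZeroIsoSelf.app S.X₂) (G.rightDerivedZeroIsoSelf.app S.X₃)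
      (G.rightDerivedZeroIsoSelf.hom.naturality S.g)
  have h3 : cokernel (G.map S.g) ≅ cokernel (cmap G S) :=
    cokernelIsoOfEq (cokernel.π_desc _ _ _).symm ≪≫ cokernelEpiComp _ _
  exact ⟨h3.symm ≪≫ h2.symm ≪≫ h1⟩

lemma nonempty_rightDerived_shift {S : ShortComplex A}
    (hS : S.ShortExact) [Injective S.X₂] (q : ℕ) (hq : 1 ≤ q) :
    Nonempty ((G.rightDerived q).obj S.X₃ ≅ (G.rightDerived (q + 1)).obj S.X₁) := by
  obtain ⟨δ, hδ⟩ := (Cohder.RDLES.exists_les G hS).2.2
  obtain ⟨w₁, w₂, h, h'⟩ := hδ q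
  obtain ⟨m, rfl⟩ : ∃ m, q = m + 1 := ⟨q - 1, by omega⟩
  have h0 : IsZero ((G.rightDerived (m + 1)).obj S.X₂) :=
    G.isZero_rightDerived_obj_injective_succ m S.X₂
  have h1 : IsZero ((G.rightDerived (m + 1 + 1)).obj S.X₂) :=
    G.isZero_rightDerived_obj_injective_succ (m + 1) S.X₂
  have hepi : Epi (δ (m + 1)) := h'.epi_f (h1.eq_of_tgt _ _)
  have hmono : Mono (δ (m + 1)) := h.mono_g (h0.eq_of_src _ _)
  have : IsIso (δ (m + 1)) := isIso_of_mono_of_epi _
  exact ⟨asIso (δ (m + 1))⟩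

end Comparison

/-- Truncated Leray: if `R^q G (H)` is `X`-acyclic for `1 ≤ q ≤ n`, the map `Ext^q(X, G H) → Ext^q(L X, H)` is
bijective for `q ≤ n` and injective for `q = n + 1`. -/
theorem cmp_counit_range {G : A ⥤ B} [G.Additive] (adj : L ⊣ G) (X : B) (n : ℕ) :
    ∀ H : A, (∀ q : ℕ, 1 ≤ q → q ≤ n → Acy.{w} X ((G.rightDerived q).obj H)) →
      (∀ q : ℕ, q ≤ n →
        Function.Bijective (ExtCompare.cmp.{w, w'} (F := H) L X (adj.counit.app H) q)) ∧
      Function.Injective (ExtCompare.cmp.{w, w'} (F := H) L X (adj.counit.app H) (n + 1)) := by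
  have hG : PreservesLimitsOfSize.{0, 0} G := adj.rightAdjoint_preservesLimits
  have : PreservesFiniteLimits G := PreservesLimitsOfSize.preservesFiniteLimits _
  have : L.PreservesMonomorphisms := inferInstance
  have h0 : ∀ H : A, Function.Bijective (ExtCompare.cmp.{w, w'} (F := H) L X (adj.counit.app H) 0) :=
    fun H => ExtCompare.cmp_zero_bijective L X _ (homEquiv_bijective L adj X H)
  -- the step from the quotient
  have hstep : ∀ (S : ShortComplex A) (hS : S.ShortExact) (hI : Injective S.X₂) (q : ℕ),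
      Function.Injective (ExtCompare.cmp.{w, w'} (F := S.X₃) L X (adj.counit.app S.X₃) q) →
      Function.Injective (fun e : Ext.{w} X (cokernel (G.map S.f)) q =>
        e.comp (Ext.mk₀ (cmap G S)) (add_zero q)) →
      Function.Injective (ExtCompare.cmp.{w, w'} (F := S.X₁) L X (adj.counit.app S.X₁) (q + 1)) ∧
      (Function.Surjective (ExtCompare.cmp.{w, w'} (F := S.X₃) L X (adj.counit.app S.X₃) q) →
      Function.Surjective (fun e : Ext.{w} X (cokernel (G.map S.f)) q =>
        e.comp (Ext.mk₀ (cmap G S)) (add_zero q)) →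
      Function.Surjective
        (ExtCompare.cmp.{w, w'} (F := S.X₁) L X (adj.counit.app S.X₁) (q + 1))) := by
    intro S hS hI q hi1 hi2
    have hGI : Injective (G.obj S.X₂) := Injective.injective_of_adjoint adj S.X₂
    have hm := hS.mono_f
    have h2 : L.map (cokernel.π (G.map S.f)) ≫ L.map (cmap G S) ≫ adj.counit.app S.X₃ =
        adj.counit.app S.X₂ ≫ S.g := by
      rw [← Category.assoc, ← L.map_comp, cmap, cokernel.π_desc]
      exact adj.counit_naturality _
    have hcomp : ∀ x : Ext.{w} X (cokernel (G.map S.f)) q,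
        ExtCompare.cmp.{w, w'} L X (L.map (cmap G S) ≫ adj.counit.app S.X₃) q x =
          ExtCompare.cmp.{w, w'} (F := S.X₃) L X (adj.counit.app S.X₃) q
            (x.comp (Ext.mk₀ (cmap G S)) (add_zero q)) := by
      intro x
      have := ExtCompare.cmp_naturality.{w, w'} L X (L.map (cmap G S) ≫ adj.counit.app S.X₃)
        (adj.counit.app S.X₃) (cmap G S) (𝟙 S.X₃) (Category.comp_id _).symm q x
      rw [this]
      exact (Ext.comp_mk₀_id _).symm
    have hcomp' : ⇑(ExtCompare.cmp.{w, w'} L X (L.map (cmap G S) ≫ adj.counit.app S.X₃) q) =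
        ⇑(ExtCompare.cmp.{w, w'} (F := S.X₃) L X (adj.counit.app S.X₃) q) ∘
          (fun e : Ext.{w} X (cokernel (G.map S.f)) q =>
            e.comp (Ext.mk₀ (cmap G S)) (add_zero q)) := funext hcomp
    have hb := step L (X := X) (shortExact_mono_cokernel (G.map S.f)) hS (adj.counit.app S.X₁)
      (adj.counit.app S.X₂) (L.map (cmap G S) ≫ adj.counit.app S.X₃) (adj.counit_naturality _) h2
      (homEquiv_bijective L adj X S.X₂).2 hGI hI q (by rw [hcomp']; exact hi1.comp hi2)
    exact ⟨hb.1, fun hs1 hs2 => hb.2 (by rw [hcomp']; exact hs1.comp hs2)⟩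
  induction n with
  | zero =>
    intro H _
    refine ⟨fun q hq => ?_, ?_⟩
    · obtain rfl : q = 0 := by omega
      exact h0 H
    obtain ⟨S, hS, rfl, hI⟩ := Cohder.RDAcyc.exists_embedding H
    have := mono_cmap (G := G) hS
    exact (hstep S hS hI 0 (h0 _).1 (postcomp_injective_of_mono_zero X _)).1
  | succ n ih =>
    intro H hH
    obtain ⟨S, hS, rfl, hI⟩ := Cohder.RDAcyc.exists_embedding H
    have hmono := mono_cmap (G := G) hS
    obtain ⟨i1⟩ := nonempty_cokernel_cmap_iso (G := G) hS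
    have hc : ∀ q : ℕ, Function.Bijective (fun e : Ext.{w} X (cokernel (G.map S.f)) q =>
        e.comp (Ext.mk₀ (cmap G S)) (add_zero q)) := fun q =>
      bijective_of_acy_right X (shortExact_mono_cokernel (cmap G S))
        (acy_of_iso i1.symm (hH 1 le_rfl (by omega))) q
    obtain ⟨b1, b2⟩ := ih S.X₃ fun q h1 h2 => by
      obtain ⟨i⟩ := nonempty_rightDerived_shift (G := G) hS q h1
      exact acy_of_iso i.symm (hH (q + 1) (by omega) (by omega))
    refine ⟨fun q hq => ?_, ?_⟩
    · cases q with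
      | zero => exact h0 _
      | succ q =>
        have h3 := hstep S hS hI q (b1 q (by omega)).1 (hc q).1
        exact ⟨h3.1, h3.2 (b1 q (by omega)).2 (hc q).2⟩
    · exact (hstep S hS hI (n + 1) b2 (hc _).1).1

/-- Truncated comparison of `Ext^q(X, Y)` and `Ext^q(L X, L Y)`. -/
theorem mapExact_range {G : A ⥤ B} [G.Additive] (adj : L ⊣ G) (X : B) (n : ℕ) (Y : B)
    (hk : Acy.{w} X (kernel (adj.unit.app Y))) (hc : Acy.{w} X (cokernel (adj.unit.app Y)))
    (hF : ∀ q : ℕ, 1 ≤ q → q ≤ n → Acy.{w} X ((G.rightDerived q).obj (L.obj Y))) :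
    (∀ q : ℕ, q ≤ n → Function.Bijective
      (L.mapExtAddHom X Y q : Ext.{w} X Y q →+ Ext.{w'} (L.obj X) (L.obj Y) q)) ∧
    Function.Injective
      (L.mapExtAddHom X Y (n + 1) : Ext.{w} X Y (n + 1) →+ Ext.{w'} (L.obj X) (L.obj Y) (n + 1)) := by
  obtain ⟨b1, b2⟩ := cmp_counit_range.{w, w'} L adj X n (L.obj Y) hF
  have key : ∀ q : ℕ, ⇑(L.mapExtAddHom X Y q : Ext.{w} X Y q →+ Ext.{w'} (L.obj X) (L.obj Y) q) =
      ⇑(ExtCompare.cmp.{w, w'} (F := L.obj Y) L X (adj.counit.app (L.obj Y)) q) ∘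
        (fun e : Ext.{w} X Y q => e.comp (Ext.mk₀ (adj.unit.app Y)) (add_zero q)) := by
    intro q
    ext e
    simp only [Function.comp_apply, ExtCompare.cmp_apply, Ext.mapExactFunctor_comp,
      Ext.mapExactFunctor_mk₀, Ext.comp_assoc_of_third_deg_zero, Ext.mk₀_comp_mk₀,
      adj.left_triangle_components]
    exact (Ext.comp_mk₀_id _).symm
  have hu := fun q => postcomp_bijective_of_ker_coker X (adj.unit.app Y) hk hc q
  refine ⟨fun q hq => ?_, ?_⟩
  · rw [key]
    exact (b1 q hq).comp (hu q)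
  · rw [key]
    exact b2.comp (hu _).1

end Abstract

section Hpull

variable {X Y : Scheme.{u}}

/-- Truncated Leray comparison for `EtCore.Hpull`. -/
theorem Hpull_range (f : X ⟶ Y) [PreservesFiniteLimits (EtCoh.pull f)] (G : EtCoh.Ab Y) (n : ℕ)
    (hk : ∀ p : ℕ, Subsingleton (EtCoh.H Y (kernel ((EtCoh.pullPushAdj f).unit.app G)) p))
    (hc : ∀ p : ℕ, Subsingleton (EtCoh.H Y (cokernel ((EtCoh.pullPushAdj f).unit.app G)) p))
    (hR : ∀ q : ℕ, 1 ≤ q → q ≤ n → ∀ p : ℕ,
      Subsingleton (EtCoh.H Y ((EtCoh.Rpush f q).obj ((EtCoh.pull f).obj G)) p)) :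
    (∀ q : ℕ, q ≤ n → Function.Bijective (EtCore.Hpull f G q)) ∧
      Function.Injective (EtCore.Hpull f G (n + 1)) := by
  obtain ⟨b1, b2⟩ := mapExact_range (EtCoh.pull f) (EtCoh.pullPushAdj f) (EtCoh.const Y ℤ) n G
    hk hc hR
  have h3 : ∀ q : ℕ, Function.Bijective (fun e : Ext ((EtCoh.pull f).obj (EtCoh.const Y ℤ))
      ((EtCoh.pull f).obj G) q => (Ext.mk₀ (EtCore.pullConst f ℤ).inv).comp e (zero_add q)) := by
    intro q
    constructor
    · intro a b h
      have := congrArg (fun e => (Ext.mk₀ (EtCore.pullConst f ℤ).hom).comp e (zero_add q)) h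
      simpa only [Ext.mk₀_comp_mk₀_assoc, Iso.hom_inv_id, Ext.mk₀_id_comp] using this
    · intro a
      refine ⟨(Ext.mk₀ (EtCore.pullConst f ℤ).hom).comp a (zero_add q), ?_⟩
      simp only [Ext.mk₀_comp_mk₀_assoc, Iso.inv_hom_id]
      exact Ext.mk₀_id_comp _
  exact ⟨fun q hq => (h3 q).comp (b1 q hq), (h3 (n + 1)).1.comp b2⟩

/-- `Hpull f G` is bijective in degrees `≤ n` and injective in degree `n + 1` if `G ≅ f_* f⁻¹ G` and
`R^q f_* f⁻¹ G = 0` for `1 ≤ q ≤ n`. -/
theorem Hpull_range_of_isIso_unit (f : X ⟶ Y) [PreservesFiniteLimits (EtCoh.pull f)]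
    (G : EtCoh.Ab Y) (n : ℕ) (h0 : IsIso ((EtCoh.pullPushAdj f).unit.app G))
    (hR : ∀ q : ℕ, 1 ≤ q → q ≤ n → IsZero ((EtCoh.Rpush f q).obj ((EtCoh.pull f).obj G))) :
    (∀ q : ℕ, q ≤ n → Function.Bijective (EtCore.Hpull f G q)) ∧
      Function.Injective (EtCore.Hpull f G (n + 1)) :=
  Hpull_range f G n
    (acy_of_isZero (EtCoh.const Y ℤ) (isZero_kernel_of_mono _))
    (acy_of_isZero (EtCoh.const Y ℤ) (isZero_cokernel_of_epi _))
    (fun q h1 h2 => acy_of_isZero (EtCoh.const Y ℤ) (hR q h1 h2))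

end Hpull

end Groth.Agent.Etbc.H234.LerayRange
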