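import Groth.Agent.Etrest.HpullTors2
import Groth.Prelude.Def_EtAcyc
import Mathlib.GroupTheory.Perm.Cycle.Type
import Mathlib.GroupTheory.SpecificGroups.Cyclic

/-!
# Constant coefficients: from `Z/ℓ` to all `L`-torsion groups

* `subsingleton_H_constU`: `X` qcqs with `H^q(X, Z/ℓ) = 0` for `1 ≤ q ≤ N` and all primes `ℓ ∈ L`; then
  `H^q(X, M) = 0` for `1 ≤ q ≤ N` and every `L`-torsion abelian group `M` (in the value universe).
* `bijective_Hpull_constU`: pullback on the cohomology of `M` along a morphism of `N`-acyclic qcqs schemes is bijective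
  in degrees `≤ N`.
* `isAcyclicSchemeN_strictHens`: the spectrum of a strictly henselian local ring is acyclic.
-/

set_option autoImplicit false

universe u w

open CategoryTheory CategoryTheory.Limits AlgebraicGeometry Opposite

namespace Groth.Agent.Etbc.H234.ConstDev

open Groth.Agent.Etrest Groth.Agent.Etrest.HpullConst Groth.Agent.Etrest.HpullTors

/-- Every element is killed by a positive integer with prime factors in `L`. -/
def GrpLTorsion (L : Set ℕ) (M : Type w) [AddCommGroup M] : Prop :=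
  ∀ m : M, ∃ n : ℕ, EtAcyc.PrimesIn L n ∧ n • m = 0

theorem primesIn_of_dvd {L : Set ℕ} {a b : ℕ} (h : a ∣ b) (hb : EtAcyc.PrimesIn L b) :
    EtAcyc.PrimesIn L a :=
  ⟨Nat.pos_of_dvd_of_pos h hb.1, fun p hp hpa => hb.2 p hp (hpa.trans h)⟩

theorem primesIn_mul {L : Set ℕ} {a b : ℕ} (ha : EtAcyc.PrimesIn L a) (hb : EtAcyc.PrimesIn L b) :
    EtAcyc.PrimesIn L (a * b) :=
  ⟨Nat.mul_pos ha.1 hb.1, fun p hp hpab => (hp.dvd_mul.1 hpab).elim (ha.2 p hp) (hb.2 p hp)⟩

instance constU_preservesFiniteLimits (X : Scheme.{u}) : PreservesFiniteLimits (constU X) := by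
  unfold constU constantSheaf
  infer_instance

instance constU_preservesFiniteColimits (X : Scheme.{u}) : PreservesFiniteColimits (constU X) := by
  have : PreservesColimitsOfSize.{0, 0} (constU X) :=
    ((constantSheafAdj X.smallEtaleTopology AddCommGrpCat.{u + 1}
      (EtCore.topIsTerminal X))).leftAdjoint_preservesColimits
  exact PreservesColimitsOfSize.preservesFiniteColimits _

section Van

variable (X : Scheme.{u})

/-- Vanishing in degrees `1 ≤ q ≤ N` with constant coefficients `M`. -/
def Van (N : ℕ) (M : AddCommGrpCat.{u + 1}) : Prop :=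
  ∀ q : ℕ, 1 ≤ q → q ≤ N → Subsingleton (EtCoh.H X ((constU X).obj M) q)

variable {X}

theorem van_of_iso {N : ℕ} {M M' : AddCommGrpCat.{u + 1}} (e : M ≅ M') (h : Van X N M) :
    Van X N M' := fun q h1 h2 => by
  have h3 := h q h1 h2
  exact @Function.Injective.subsingleton _ _ _
    (((EtCoh.HF X q).mapIso ((constU X).mapIso e)).addCommGroupIsoToAddEquiv.symm.injective) h3

theorem van_of_isZero {N : ℕ} {M : AddCommGrpCat.{u + 1}} (h : IsZero M) : Van X N M := fun q _ _ =>
  AddCommGrpCat.subsingleton_of_isZero ((EtCoh.HF X q).map_isZero ((constU X).map_isZero h))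

theorem van_of_shortExact {N : ℕ} {S : ShortComplex AddCommGrpCat.{u + 1}} (hS : S.ShortExact)
    (h1 : Van X N S.X₁) (h3 : Van X N S.X₃) : Van X N S.X₂ := fun q hq hq' => by
  have := h1 q hq hq'
  have := h3 q hq hq'
  refine subsingleton_of_forall_eq 0 fun x => ?_
  have hT := hS.map_of_exact (constU X)
  obtain ⟨y, rfl⟩ := Abelian.Ext.covariant_sequence_exact₂ (EtCoh.const X ℤ) hT x
    (Subsingleton.elim (α := EtCoh.H X ((constU X).obj S.X₃) q) _ _)
  have h0 : y = 0 := Subsingleton.elim (α := EtCoh.H X ((constU X).obj S.X₁) q) y 0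
  rw [h0, Abelian.Ext.zero_comp]
  rfl

/-- Dévissage for finite groups. -/
theorem van_finite {L : Set ℕ} {N : ℕ}
    (h : ∀ ℓ : ℕ, ℓ.Prime → ℓ ∈ L → Van X N (AddCommGrpCat.of (ULift.{u + 1} (ZMod ℓ)))) (k : ℕ) :
    ∀ (M : Type (u + 1)) [AddCommGroup M] [Finite M], Nat.card M ≤ k → GrpLTorsion L M →
      Van X N (AddCommGrpCat.of M) := by
  induction k with
  | zero =>
    intro M _ _ hk _
    exact absurd (Nat.card_pos (α := M)) (by omega)
  | succ k ih =>
    intro M _ _ hk hM
    by_cases h1 : Nat.card M = 1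
    · refine van_of_isZero ?_
      have : Subsingleton M := (Nat.card_eq_one_iff_unique.1 h1).1
      exact AddCommGrpCat.isZero_of_subsingleton _
    · obtain ⟨p, hp, hpM⟩ := Nat.exists_prime_and_dvd h1
      have : Fact p.Prime := ⟨hp⟩
      obtain ⟨x, hx⟩ := exists_prime_addOrderOf_dvd_card' (G := M) p hpM
      have hpL : p ∈ L := by
        obtain ⟨n, hn, hnx⟩ := hM x
        exact hn.2 p hp (hx ▸ addOrderOf_dvd_of_nsmul_eq_zero hnx)
      let H := AddSubgroup.zmultiples x
      have hH : Nat.card H = p := (Nat.card_zmultiples x).trans hx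
      let S : ShortComplex AddCommGrpCat.{u + 1} := ShortComplex.mk
        (AddCommGrpCat.ofHom H.subtype : AddCommGrpCat.of H ⟶ AddCommGrpCat.of M)
        (AddCommGrpCat.ofHom (QuotientAddGroup.mk' H) : AddCommGrpCat.of M ⟶ AddCommGrpCat.of (M ⧸ H))
        (by
          ext y
          exact (QuotientAddGroup.eq_zero_iff (y : M)).2 y.2)
      have hS : S.ShortExact :=
        { exact := by
            rw [ShortComplex.ab_exact_iff]
            intro y hy
            exact ⟨⟨y, (QuotientAddGroup.eq_zero_iff y).1 hy⟩, rfl⟩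
          mono_f := by
            rw [AddCommGrpCat.mono_iff_injective]
            exact Subtype.val_injective
          epi_g := by
            rw [AddCommGrpCat.epi_iff_surjective]
            exact QuotientAddGroup.mk'_surjective H }
      refine van_of_shortExact hS ?_ ?_
      · have e : H ≃+ ZMod p := addEquivOfAddCyclicCardEq (by rw [hH, Nat.card_zmod])
        exact van_of_iso ((e.trans AddEquiv.ulift.symm).toAddCommGrpIso).symm (h p hp hpL)
      · refine ih (M ⧸ H) ?_ ?_
        · have h2 := AddSubgroup.card_eq_card_quotient_mul_card_addSubgroup H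
          rw [hH] at h2
          have h3 : 2 ≤ p := hp.two_le
          have h4 : 0 < Nat.card (M ⧸ H) := Nat.card_pos
          nlinarith
        · intro y
          obtain ⟨y, rfl⟩ := QuotientAddGroup.mk'_surjective H y
          obtain ⟨n, hn, hny⟩ := hM y
          exact ⟨n, hn, by rw [← map_nsmul, hny, map_zero]⟩

variable [CompactSpace X] [QuasiSeparatedSpace X]

/-- Dévissage for arbitrary `L`-torsion groups. -/
theorem van_of_torsion {L : Set ℕ} {N : ℕ}
    (h : ∀ ℓ : ℕ, ℓ.Prime → ℓ ∈ L → Van X N (AddCommGrpCat.of (ULift.{u + 1} (ZMod ℓ))))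
    (M : Type (u + 1)) [AddCommGroup M] (hM : GrpLTorsion L M) : Van X N (AddCommGrpCat.of M) := by
  intro q hq hqN
  let F : AddCommGrpCat.{u + 1} ⥤ AddCommGrpCat.{u + 1} := constU X ⋙ EtCoh.HF X q
  have hF : ∀ (J : Type (u + 1)) [SmallCategory J] [IsFiltered J], PreservesColimitsOfShape J F := by
    intro J _ _
    have := HpullTors2.cohColim X q J
    infer_instance
  have key : IsIso ((0 : F ⟶ F).app (AddCommGrpCat.of M)) := by
    refine TorsReduce.isIso_of_torsion (0 : F ⟶ F) (EtAcyc.PrimesIn L) hF hF ?_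
      (fun a b hab hb => primesIn_of_dvd hab hb) M ?_
    · intro n hn hPn
      have : NeZero n := ⟨hn.ne'⟩
      have hv := van_finite h (Nat.card (ULift.{u + 1} (ZMod n))) (ULift.{u + 1} (ZMod n)) le_rfl
        (fun m => ⟨n, hPn, by
          ext
          change n • m.down = 0
          rw [nsmul_eq_mul, ZMod.natCast_self, zero_mul]⟩) q hq hqN
      have hz : IsZero (F.obj (AddCommGrpCat.of (ULift.{u + 1} (ZMod n)))) :=
        @AddCommGrpCat.isZero_of_subsingleton _ hv
      exact ⟨0, hz.eq_of_src _ _, hz.eq_of_src _ _⟩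
    · intro m
      obtain ⟨n, hn, hnm⟩ := hM m
      exact ⟨n, hn.1, hn, hnm⟩
  have h0 : IsZero (F.obj (AddCommGrpCat.of M)) := by
    rw [IsZero.iff_id_eq_zero]
    rw [← cancel_mono ((0 : F ⟶ F).app (AddCommGrpCat.of M))]
    simp
  exact AddCommGrpCat.subsingleton_of_isZero h0

/-- Vanishing of the cohomology of an acyclic scheme with `L`-torsion constant coefficients. -/
theorem subsingleton_H_constU {L : Set ℕ} {N : ℕ} (h : EtAcyc.IsAcyclicSchemeN L N X)
    (M : Type (u + 1)) [AddCommGroup M] (hM : GrpLTorsion L M) (q : ℕ) (hq : 1 ≤ q) (hqN : q ≤ N) :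
    Subsingleton (EtCoh.H X ((constU X).obj (AddCommGrpCat.of M)) q) :=
  van_of_torsion (fun ℓ hℓ hℓL q hq hqN => h.2.2 ℓ hℓ hℓL q hq hqN) M hM q hq hqN

end Van

/-- The unit of the constant sheaf adjunction on a connected scheme. -/
theorem isIso_unit_constU (X : Scheme.{u}) [Nonempty X] [ConnectedSpace X] (M : AddCommGrpCat.{u + 1}) :
    IsIso ((constantSheafAdj X.smallEtaleTopology AddCommGrpCat.{u + 1}
      (EtCore.topIsTerminal X)).unit.app M) := by
  refine (isIso_unit_iff X M (EtCore.topIsTerminal X)).2 ?_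
  have h1 : Nonempty (EtCoh.top X).left := inferInstanceAs (Nonempty X)
  have h2 : PreconnectedSpace (EtCoh.top X).left := inferInstanceAs (PreconnectedSpace X)
  exact bijective_const M

/-- Pullback on the cohomology of constant `L`-torsion sheaves between acyclic schemes. -/
theorem bijective_Hpull_constU {X Y : Scheme.{u}} [CompactSpace X] [QuasiSeparatedSpace X]
    [CompactSpace Y] [QuasiSeparatedSpace Y] (f : X ⟶ Y) [PreservesFiniteLimits (EtCoh.pull f)]
    {L : Set ℕ} {N : ℕ} (hX : EtAcyc.IsAcyclicSchemeN L N X) (hY : EtAcyc.IsAcyclicSchemeN L N Y)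
    (M : Type (u + 1)) [AddCommGroup M] (hM : GrpLTorsion L M) (q : ℕ) (hq : q ≤ N) :
    Function.Bijective (EtCore.Hpull f ((constU Y).obj (AddCommGrpCat.of M)) q) := by
  rcases Nat.eq_zero_or_pos q with rfl | hq0
  · have := hX.1
    have := hX.2.1
    have := hY.1
    have := hY.2.1
    exact bijective_Hpull_zero_const f (AddCommGrpCat.of M)
      (constU_map_bijective X _ _ (EtCore.topIsTerminal X) (isIso_unit_constU X _))
      (constU_map_bijective Y _ _ (EtCore.topIsTerminal Y) (isIso_unit_constU Y _))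
  · have h1 := subsingleton_H_constU hX M hM q hq0 hq
    have h2 := subsingleton_H_constU hY M hM q hq0 hq
    have e := ((EtCoh.HF X q).mapIso ((EtCore.pullConstIso f).app
      (AddCommGrpCat.of M))).addCommGroupIsoToAddEquiv
    have h3 : Subsingleton (EtCoh.H X ((EtCoh.pull f).obj ((constU Y).obj (AddCommGrpCat.of M))) q) :=
      @Function.Injective.subsingleton _ _ _ e.injective h1
    exact ⟨fun a b _ => Subsingleton.elim _ _, fun b => ⟨0, Subsingleton.elim _ _⟩⟩

/-- The spectrum of a strictly henselian local ring is acyclic. -/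
theorem isAcyclicSchemeN_strictHens (R : Type u) [CommRing R] [HenselianLocalRing R]
    [IsSepClosed (IsLocalRing.ResidueField R)] (L : Set ℕ) (N : ℕ) :
    EtAcyc.IsAcyclicSchemeN L N (Spec (CommRingCat.of R)) := by
  have := HpullTors2.connectedSpace_of_isLocalRing R
  exact ⟨⟨IsLocalRing.closedPoint R⟩, inferInstance, fun ℓ _ _ q hq _ =>
    Groth.Agent.S0073.result R _ q hq⟩

/-- `Hpull` out of a strictly henselian local scheme, for locally constant `L`-torsion sheaves. -/
theorem bijective_Hpull_strictHens (R : Type u) [CommRing R] [HenselianLocalRing R]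
    [IsSepClosed (IsLocalRing.ResidueField R)] {V : Scheme.{u}} [CompactSpace V]
    [QuasiSeparatedSpace V] (h : V ⟶ Spec (CommRingCat.of R)) [PreservesFiniteLimits (EtCoh.pull h)]
    {L : Set ℕ} {N : ℕ} (hV : EtAcyc.IsAcyclicSchemeN L N V)
    (F : EtCoh.Ab (Spec (CommRingCat.of R))) (hF : EtRest.IsLocallyConstant F)
    (hs : ∀ s : (EtCoh.stalk (Etbase.StrictHensPoint.pt R)).obj F,
      ∃ n : ℕ, EtAcyc.PrimesIn L n ∧ n • s = 0)
    (q : ℕ) (hq : q ≤ N) : Function.Bijective (EtCore.Hpull h F q) := by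
  obtain ⟨M, _, ⟨e⟩⟩ := LCConst.exists_iso_const R F hF
  rw [bijective_Hpull_iff_of_iso h q e]
  refine bijective_Hpull_constU h hV (isAcyclicSchemeN_strictHens R L N) M (fun m => ?_) q hq
  obtain ⟨n, hn, hPn, hnm⟩ := HpullTors2.nsmul_eq_zero_of_stalk (Spec (CommRingCat.of R)) M
    (Etbase.StrictHensPoint.pt R) (EtAcyc.PrimesIn L) (fun s => by
      let e' := (EtCoh.stalk (Etbase.StrictHensPoint.pt R)).mapIso e
      obtain ⟨n, hPn, hns⟩ := hs (e'.inv s)
      refine ⟨n, hPn.1, hPn, ?_⟩
      rw [← map_nsmul] at hns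
      have h1 := congrArg e'.hom hns
      rw [map_zero, ← ConcreteCategory.comp_apply, e'.inv_hom_id] at h1
      exact h1) m
  exact ⟨n, hPn, hnm⟩

end Groth.Agent.Etbc.H234.ConstDev
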