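import Groth.Agent.S0001
import Groth.Agent.S0125
import Groth.Agent.EtpbcB.PBCVan
import Groth.Agent.EtpbcB.GeomPointIndep
import Groth.Agent.EtpbcB.TorsionBasic
import Groth.Agent.Etcore.Stalks
import Groth.Agent.Etcore.Torsion
import Groth.Agent.Etbase.StalkPull
import Groth.Agent.Etbase.StrictHensPoint
import Groth.Agent.Etbc.H234.LerayRange

/-!
# Proper schemes over a strictly henselian local ring: sheaves vanishing on the closed fibre

* `subsingleton_H`: `f : X ⟶ Spec R` proper, `R` strictly henselian, `K` torsion with zero geometric stalks at the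
  points of the closed fibre; then `H^p(X, K) = 0` for all `p`.
* `Hpull_range`: `h : Y ⟶ X` qcqs and `F` torsion on `X` such that on the closed fibre the unit `F ⟶ h_* h⁻¹ F` is
  bijective on stalks and the stalks of `R^q h_* h⁻¹ F` vanish for `1 ≤ q ≤ n`; then `Hpull h F q` is bijective for
  `q ≤ n` and injective for `q = n + 1`.
-/

set_option autoImplicit false

universe u

open CategoryTheory CategoryTheory.Limits AlgebraicGeometry Opposite IsLocalRing

namespace Groth.Agent.Etbc.H234.ClosedFibre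

open Groth.Agent Groth.Agent.Etbase

variable (R : Type u) [CommRing R] [HenselianLocalRing R] [IsSepClosed (ResidueField R)]
  {X : Scheme.{u}} (f : X ⟶ Spec (CommRingCat.of R))

theorem pt_default : (StrictHensPoint.pt R) default = closedPoint R := by
  have := EtpbcB.PBCVan.specMap_closedPoint (residue R)
  rw [← this]
  congr 1
  exact Subsingleton.elim _ _

/-- Vanishing at the closed point of all the geometric stalks. -/
def VanClosed (K : EtCoh.Ab X) : Prop :=
  ∀ x : X, f x = closedPoint R → ∃ (Ω' : Type u) (_ : Field Ω') (_ : IsSepClosed Ω')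
      (ξ : Spec (CommRingCat.of Ω') ⟶ X), ξ default = x ∧ IsZero ((EtCoh.stalk ξ).obj K)

/-- Higher direct images of a torsion sheaf vanishing on the closed fibre vanish at the closed point. -/
theorem isZero_stalk_Rpush [IsProper f] (K : EtCoh.Ab X) (hK : EtCoh.IsTorsion K)
    (hz : VanClosed R f K) (p : ℕ) :
    IsZero ((EtCoh.stalk (StrictHensPoint.pt R)).obj ((EtCoh.Rpush f p).obj K)) := by
  let g := StrictHensPoint.pt R
  let g' := pullback.fst f g
  let f' := pullback.snd f g
  have hsq : IsPullback g' f' f g := IsPullback.of_hasPullback f g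
  obtain ⟨i⟩ := (Groth.Agent.S0001.result X _ _ _ f g f' g' hsq K hK).1 p
  have h0 : IsZero ((EtCoh.pull g').obj K) := by
    refine Etcore.Stalks.isZero_of_stalks _ fun x => ?_
    obtain ⟨Ω', _, _, ξ, hξ⟩ := Etcore.Stalks.exists_geom x
    refine ⟨Ω', inferInstance, inferInstance, ξ, hξ, ?_⟩
    have h1 : f (g' x) = IsLocalRing.closedPoint R := by
      have e1 : f (g' x) = g (f' x) := by
        have := congrArg (fun (k : pullback f g ⟶ _) => k x) hsq.w
        exact this
      rw [e1, ← pt_default R]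
      exact congrArg g (Subsingleton.elim (α := Spec (CommRingCat.of (IsLocalRing.ResidueField R))) _ _)
    obtain ⟨Ω'', _, _, ξ', hξ', hz'⟩ := hz (g' x) h1
    obtain ⟨i1⟩ := EtpbcB.GeomPointIndep.nonempty_stalkIso (ξ ≫ g') ξ' (by
      rw [Scheme.Hom.comp_apply, hξ, hξ'])
    exact ((hz'.of_iso (i1.app K))).of_iso ((StalkPull.stalkPullIso g' ξ).app K).symm
  have h2 : IsZero ((EtCoh.pull g).obj ((EtCoh.Rpush f p).obj K)) :=
    ((EtCoh.Rpush f' p).map_isZero h0).of_iso i
  have h3 := (EtCoh.stalk (𝟙 _)).map_isZero h2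
  have h4 := h3.of_iso ((StalkPull.stalkPullIso g (𝟙 _)).app _)
  have h5 : 𝟙 _ ≫ g = g := Category.id_comp g
  rw [h5] at h4
  exact h4

/-- The cohomology of a torsion sheaf vanishing on the closed fibre is zero. -/
theorem subsingleton_H [IsProper f] (K : EtCoh.Ab X) (hK : EtCoh.IsTorsion K)
    (hz : VanClosed R f K) (p : ℕ) : Subsingleton (EtCoh.H X K p) := by
  obtain ⟨_, _, _, h1⟩ := EtpbcB.StrictHensTransport.exists_specOf_closedPoint R
  obtain ⟨e⟩ := S0620.result f K (closedPoint R) R p
  have h2 : Hens2.geomPt (Spec (CommRingCat.of R)) (closedPoint R) R = StrictHensPoint.pt R := by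
    have h3 : Hens2.geomPt (Spec (CommRingCat.of R)) (closedPoint R) R =
      StrictHensPoint.pt R ≫ Hens2.specOf (Spec (CommRingCat.of R)) (closedPoint R) R := rfl
    rw [h3, h1, Category.comp_id]
  have h4 := isZero_stalk_Rpush R f K hK hz p
  rw [← h2] at h4
  have h5 : EtpbcB.PBCVan.Van f (Hens2.specOf (Spec (CommRingCat.of R)) (closedPoint R) R) K p :=
    AddCommGrpCat.subsingleton_of_isZero (h4.of_iso e.symm)
  rw [h1] at h5
  exact (EtpbcB.PBCVan.van_id f K p).1 h5

theorem isZero_kernel_of_isIso {C D : Type*} [Category* C] [Category* D] [Abelian C] [Abelian D]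
    (E : C ⥤ D) [E.Additive] [PreservesFiniteLimits E] {A B : C} (η : A ⟶ B) [IsIso (E.map η)] :
    IsZero (E.obj (kernel η)) := by
  refine IsZero.of_iso ?_ (PreservesKernel.iso E η)
  exact isZero_kernel_of_mono (E.map η)

theorem isZero_cokernel_of_isIso {C D : Type*} [Category* C] [Category* D] [Abelian C] [Abelian D]
    (E : C ⥤ D) [E.Additive] [PreservesFiniteColimits E] {A B : C} (η : A ⟶ B) [IsIso (E.map η)] :
    IsZero (E.obj (cokernel η)) := by
  refine IsZero.of_iso ?_ (PreservesCokernel.iso E η)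
  exact isZero_cokernel_of_epi (E.map η)

/-- Comparison of cohomology from stalks at the points of the closed fibre. -/
theorem Hpull_range [IsProper f] {Y : Scheme.{u}} (h : Y ⟶ X) [QuasiCompact h] [QuasiSeparated h]
    [PreservesFiniteLimits (EtCoh.pull h)] (F : EtCoh.Ab X) (hF : EtCoh.IsTorsion F) (n : ℕ)
    (hu : ∀ x : X, f x = closedPoint R → ∃ (Ω' : Type u) (_ : Field Ω') (_ : IsSepClosed Ω')
      (ξ : Spec (CommRingCat.of Ω') ⟶ X), ξ default = x ∧
        IsIso ((EtCoh.stalk ξ).map ((EtCoh.pullPushAdj h).unit.app F)))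
    (hR : ∀ q : ℕ, 1 ≤ q → q ≤ n →
      VanClosed R f ((EtCoh.Rpush h q).obj ((EtCoh.pull h).obj F))) :
    (∀ q : ℕ, q ≤ n → Function.Bijective (EtCore.Hpull h F q)) ∧
      Function.Injective (EtCore.Hpull h F (n + 1)) := by
  have hpF : EtCoh.IsTorsion ((EtCoh.pull h).obj F) := Etcore.Torsion.isTorsion_pull h F hF
  have hppF : EtCoh.IsTorsion ((EtCoh.push h).obj ((EtCoh.pull h).obj F)) :=
    EtpbcA.RpushTors.isTorsion_push h _ hpF
  refine LerayRange.Hpull_range h F n ?_ ?_ ?_
  · refine subsingleton_H R f _ (EtpbcB.TorsionBasic.isTorsion_of_mono (kernel.ι _) hF) ?_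
    intro x hx
    obtain ⟨Ω', _, _, ξ, hξ, hi⟩ := hu x hx
    exact ⟨Ω', inferInstance, inferInstance, ξ, hξ, isZero_kernel_of_isIso (EtCoh.stalk ξ) _⟩
  · refine subsingleton_H R f _ (EtpbcB.TorsionBasic.isTorsion_of_epi (cokernel.π _) hppF) ?_
    intro x hx
    obtain ⟨Ω', _, _, ξ, hξ, hi⟩ := hu x hx
    exact ⟨Ω', inferInstance, inferInstance, ξ, hξ, isZero_cokernel_of_isIso (EtCoh.stalk ξ) _⟩
  · intro q h1 h2
    exact subsingleton_H R f _ (Groth.Agent.S0125.result h _ hpF q) (hR q h1 h2)

end Groth.Agent.Etbc.H234.ClosedFibre
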