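import Groth.Agent.Etbc.H234.FibreStalk
import Groth.Agent.Etbc.H234.ClosedFibre

/-!
# Specialization for cohomology over a strictly henselian base

`Hpull_range_of_fibres`: `f : X ⟶ Spec R` proper, `R` strictly henselian, `t : T ⟶ Spec R` qcqs such that
`Spec O^sh_ξ ×_R T` is `N`-acyclic for `L` for all geometric points `ξ` of the closed fibre, `F` locally constant
`L`-torsion; then `H^q(X, F) → H^q(X ×_R T, F)` is bijective for `q ≤ N` and injective for `q = N + 1`.
-/

set_option autoImplicit false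

universe u

open CategoryTheory CategoryTheory.Limits AlgebraicGeometry Opposite IsLocalRing

namespace Groth.Agent.Etbc.H234.Assembly

open Groth.Agent Groth.Agent.EtpbcB.StrictLoc

variable (R : Type u) [CommRing R] [HenselianLocalRing R] [IsSepClosed (ResidueField R)]
  {X T Y : Scheme.{u}} (f : X ⟶ Spec (CommRingCat.of R)) [IsProper f]
  (t : T ⟶ Spec (CommRingCat.of R)) [QuasiCompact t] [QuasiSeparated t]
  (h : Y ⟶ X) (e : Y ⟶ T) (hc : IsPullback h e f t) [PreservesFiniteLimits (EtCoh.pull h)]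

include hc in
theorem Hpull_range_of_fibres {L : Set ℕ} {N : ℕ} (F : EtCoh.Ab X) (hF : EtAcyc.IsLTorsion L F)
    (hlc : EtRest.IsLocallyConstant F)
    (hV : ∀ (Ω : Type u) [Field Ω] [IsSepClosed Ω] (ξ : Spec (CommRingCat.of Ω) ⟶ X),
      f (ξ default) = closedPoint R →
        EtAcyc.IsAcyclicSchemeN L N (pullback (toBase ξ ≫ f) t)) :
    (∀ q : ℕ, q ≤ N → Function.Bijective (EtCore.Hpull h F q)) ∧
      Function.Injective (EtCore.Hpull h F (N + 1)) := by
  have hqc : QuasiCompact h := MorphismProperty.of_isPullback hc.flip inferInstance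
  have hqs : QuasiSeparated h := MorphismProperty.of_isPullback hc.flip inferInstance
  refine ClosedFibre.Hpull_range R f h F (FibreStalk.isTorsion_of_isLTorsion hF) N ?_ ?_
  · intro x hx
    obtain ⟨Ω, _, _, ξ, hξ⟩ := Etcore.Stalks.exists_geom x
    exact ⟨Ω, inferInstance, inferInstance, ξ, hξ,
      (FibreStalk.stalk_data f t h e hc ξ F hF hlc (hV Ω ξ (by rw [hξ]; exact hx))).1⟩
  · intro q h1 h2 x hx
    obtain ⟨Ω, _, _, ξ, hξ⟩ := Etcore.Stalks.exists_geom x
    exact ⟨Ω, inferInstance, inferInstance, ξ, hξ,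
      (FibreStalk.stalk_data f t h e hc ξ F hF hlc (hV Ω ξ (by rw [hξ]; exact hx))).2 q h1 h2⟩

omit [IsProper f] [QuasiCompact t] [QuasiSeparated t] [HenselianLocalRing R]
  [IsSepClosed (ResidueField R)] in
/-- The case of the zero sheaf. -/
theorem Hpull_of_isZero (F : EtCoh.Ab X) (hF : IsZero F) (q : ℕ) :
    Function.Bijective (EtCore.Hpull h F q) := by
  have h1 : Subsingleton (EtCoh.H X F q) :=
    AddCommGrpCat.subsingleton_of_isZero ((EtCoh.HF X q).map_isZero hF)
  have h2 : Subsingleton (EtCoh.H Y ((EtCoh.pull h).obj F) q) :=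
    AddCommGrpCat.subsingleton_of_isZero ((EtCoh.HF Y q).map_isZero ((EtCoh.pull h).map_isZero hF))
  exact ⟨fun a b _ => Subsingleton.elim _ _, fun b => ⟨0, Subsingleton.elim _ _⟩⟩

end Groth.Agent.Etbc.H234.Assembly
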