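import Groth.Agent.Etbc.H234.ConstDev
import Groth.Agent.EtpbcA.LATrans
import Groth.Agent.EtpbcB.OshHens
import Groth.Agent.Etrest.VCBaseChange

/-!
# Stalks of `R^q h_* h⁻¹ F` over the closed point of a strictly henselian base

`f : X ⟶ Spec R`, `t : T ⟶ Spec R` qcqs, `h : Y ⟶ X` its base change, `F` locally constant `L`-torsion on `X`, `ξ` a
geometric point of `X`.

* `stalk_data`: if `Spec O^sh_ξ ×_R T` is `N`-acyclic for `L`, then `F ⟶ h_* h⁻¹ F` is bijective on stalks at `ξ` and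
  `(R^q h_* h⁻¹ F)_ξ = 0` for `1 ≤ q ≤ N`.
* `isAcyclicN_toBase`: for `R` strictly henselian, `f` locally `N`-acyclic and `ξ` over the closed point, the
  morphism `Spec O^sh_ξ ⟶ Spec R` is `N`-acyclic.
-/

set_option autoImplicit false

universe u

open CategoryTheory CategoryTheory.Limits AlgebraicGeometry Opposite IsLocalRing

namespace Groth.Agent.Etbc.H234.FibreStalk

open Groth.Agent Groth.Agent.EtpbcB.StrictLoc Groth.Agent.Etrest.StrictLoc

theorem isLTorsion_iff_stalk {X : Scheme.{u}} (L : Set ℕ) (F : EtCoh.Ab X) :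
    EtAcyc.IsLTorsion L F ↔ ∀ (Ω : Type u) [Field Ω] [IsSepClosed Ω]
      (ξ : Spec (CommRingCat.of Ω) ⟶ X) (t : (EtCoh.stalk ξ).obj F),
        ∃ n : ℕ, EtAcyc.PrimesIn L n ∧ n • t = 0 :=
  Groth.Agent.Etcore.Torsion.local_iff_stalk (fun n => EtAcyc.PrimesIn L n) F

theorem isLTorsion_pull {X Y : Scheme.{u}} (L : Set ℕ) (f : X ⟶ Y) (F : EtCoh.Ab Y)
    (hF : EtAcyc.IsLTorsion L F) : EtAcyc.IsLTorsion L ((EtCoh.pull f).obj F) := by
  rw [isLTorsion_iff_stalk] at hF ⊢
  exact Groth.Agent.Etcore.Torsion.stalk_prop_pull _ f F hF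

theorem isTorsion_of_isLTorsion {X : Scheme.{u}} {L : Set ℕ} {F : EtCoh.Ab X}
    (hF : EtAcyc.IsLTorsion L F) : EtCoh.IsTorsion F := by
  intro U s x
  obtain ⟨V, g, m, hv, hm, h0⟩ := hF U s x
  exact ⟨V, g, hv, isOfFinAddOrder_iff_nsmul_eq_zero.2 ⟨m, hm.1, h0⟩⟩

/-- An `L`-torsion sheaf vanishes if `L` contains no prime. -/
theorem isZero_of_isLTorsion {X : Scheme.{u}} {L : Set ℕ} (hL : ¬ ∃ ℓ ∈ L, ℓ.Prime) {F : EtCoh.Ab X}
    (hF : EtAcyc.IsLTorsion L F) : IsZero F := by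
  rw [isLTorsion_iff_stalk] at hF
  refine Etcore.Stalks.isZero_of_stalks _ fun x => ?_
  obtain ⟨Ω, _, _, ξ, hξ⟩ := Etcore.Stalks.exists_geom x
  refine ⟨Ω, inferInstance, inferInstance, ξ, hξ, ?_⟩
  have : Subsingleton ((EtCoh.stalk ξ).obj F) := by
    refine subsingleton_of_forall_eq 0 fun s => ?_
    obtain ⟨n, hn, hs⟩ := hF Ω ξ s
    have h1 : n = 1 := by
      by_contra h1
      obtain ⟨p, hp, hpn⟩ := Nat.exists_prime_and_dvd h1
      exact hL ⟨p, hn.2 p hp hpn, hp⟩
    rwa [h1, one_smul] at hs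
  exact AddCommGrpCat.isZero_of_subsingleton _

theorem bijective_Hpull_strictHens' (A : CommRingCat.{u}) [HenselianLocalRing A]
    [IsSepClosed (IsLocalRing.ResidueField A)] {V : Scheme.{u}} [CompactSpace V]
    [QuasiSeparatedSpace V] (h : V ⟶ Spec A) [PreservesFiniteLimits (EtCoh.pull h)]
    {L : Set ℕ} {N : ℕ} (hV : EtAcyc.IsAcyclicSchemeN L N V)
    (F : EtCoh.Ab (Spec A)) (hF : EtRest.IsLocallyConstant F)
    (hs : ∀ s : (EtCoh.stalk (Etbase.StrictHensPoint.pt A)).obj F,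
      ∃ n : ℕ, EtAcyc.PrimesIn L n ∧ n • s = 0)
    (q : ℕ) (hq : q ≤ N) : Function.Bijective (EtCore.Hpull h F q) :=
  ConstDev.bijective_Hpull_strictHens A h hV F hF hs q hq

section stalk

variable {R : Type u} [CommRing R] {X T Y : Scheme.{u}} (f : X ⟶ Spec (CommRingCat.of R))
  (t : T ⟶ Spec (CommRingCat.of R)) [QuasiCompact t] [QuasiSeparated t]
  (h : Y ⟶ X) (e : Y ⟶ T) (hc : IsPullback h e f t)
  {Ω : Type u} [Field Ω] [IsSepClosed Ω] (ξ : Spec (CommRingCat.of Ω) ⟶ X)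

include hc in
/-- The stalks of the unit and of the higher direct images. -/
theorem stalk_data {L : Set ℕ} {N : ℕ} (F : EtCoh.Ab X) (hF : EtAcyc.IsLTorsion L F)
    (hlc : EtRest.IsLocallyConstant F)
    (hV : EtAcyc.IsAcyclicSchemeN L N (pullback (toBase ξ ≫ f) t)) :
    IsIso ((EtCoh.stalk ξ).map ((EtCoh.pullPushAdj h).unit.app F)) ∧
      ∀ q : ℕ, 1 ≤ q → q ≤ N →
        IsZero ((EtCoh.stalk ξ).obj ((EtCoh.Rpush h q).obj ((EtCoh.pull h).obj F))) := by
  have hqc : QuasiCompact h := MorphismProperty.of_isPullback hc.flip inferInstance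
  have hqs : QuasiSeparated h := MorphismProperty.of_isPullback hc.flip inferInstance
  let b : pullback (toBase ξ ≫ f) t ⟶ Spec (Osh ξ) := pullback.fst _ _
  let a : pullback (toBase ξ ≫ f) t ⟶ Y :=
    hc.lift (b ≫ toBase ξ) (pullback.snd _ _) (by rw [Category.assoc]; exact pullback.condition)
  have ha1 : a ≫ h = b ≫ toBase ξ := hc.lift_fst _ _ _
  have ha2 : a ≫ e = pullback.snd _ _ := hc.lift_snd _ _ _
  have hP : IsPullback a b h (toBase ξ) := by
    refine (IsPullback.of_bot (v₂₁ := e) (v₂₂ := f) (h₃₁ := t) (v₁₁ := a) (v₁₂ := toBase ξ)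
      (h₁₁ := b) (h₂₁ := h) ?_ ha1.symm hc).flip
    rw [ha2]
    exact IsPullback.of_hasPullback _ _
  have := henselianLocalRing ξ
  have := isSepClosed_residueField ξ
  have hb1 : QuasiCompact b := inferInstance
  have hb2 : QuasiSeparated b := inferInstance
  have hqc2 : CompactSpace ↥(pullback (toBase ξ ≫ f) t) := QuasiCompact.compactSpace_of_compactSpace b
  have hqs2 : QuasiSeparatedSpace ↥(pullback (toBase ξ ≫ f) t) :=
    quasiSeparatedSpace_of_quasiSeparated b
  have hs : ∀ s : (EtCoh.stalk (Etbase.StrictHensPoint.pt (Osh ξ))).obj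
      ((EtCoh.pull (toBase ξ)).obj F), ∃ n : ℕ, EtAcyc.PrimesIn L n ∧ n • s = 0 := fun s =>
    (isLTorsion_iff_stalk L _).1 (isLTorsion_pull L (toBase ξ) F hF) _ _ s
  have key : ∀ q : ℕ, q ≤ N →
      Function.Bijective (EtCore.Hpull b ((EtCoh.pull (toBase ξ)).obj F) q) := by
    intro q hq
    exact bijective_Hpull_strictHens' (Osh ξ) b hV ((EtCoh.pull (toBase ξ)).obj F)
      (Etrest.LCConst.isLocallyConstant_pull (toBase ξ) F hlc) hs q hq
  refine ⟨?_, fun q h1 h2 => ?_⟩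
  · rw [ConcreteCategory.isIso_iff_bijective]
    exact (EtpbcA.LA.stalk_unit_iff h F ξ hP).2 (key 0 (Nat.zero_le _))
  · exact (EtpbcA.LA.isZero_stalk_iff h F ξ hP q h1).2 (key q h2)

end stalk

/-- For `R` strictly henselian, `Spec R` is its own strict localization at the closed point. -/
theorem exists_specOf_id (R : Type u) [CommRing R] [HenselianLocalRing R]
    [IsSepClosed (ResidueField R)] (s : Spec (CommRingCat.of R)) (hs : s = closedPoint R) :
    ∃ (_ : Algebra ((Spec (CommRingCat.of R)).presheaf.stalk s) R)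
      (_ : IsLocalHom (algebraMap ((Spec (CommRingCat.of R)).presheaf.stalk s) R))
      (_ : Hensel.IsStrictHenselization ((Spec (CommRingCat.of R)).presheaf.stalk s) R),
      Hens2.specOf (Spec (CommRingCat.of R)) s R = 𝟙 (Spec (CommRingCat.of R)) := by
  subst hs
  exact EtpbcB.StrictHensTransport.exists_specOf_closedPoint R

/-- The strict localization of a locally acyclic morphism at a geometric point over the closed point of a strictly
henselian base. -/
theorem onStrictLocalizations_toBase (R : Type u) [CommRing R] [HenselianLocalRing R]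
    [IsSepClosed (ResidueField R)] {X : Scheme.{u}} (f : X ⟶ Spec (CommRingCat.of R))
    (P : ∀ ⦃X' Y' : Scheme.{u}⦄, (X' ⟶ Y') → Prop) (hf : EtAcyc.OnStrictLocalizations f P)
    {Ω : Type u} [Field Ω] [IsSepClosed Ω] (ξ : Spec (CommRingCat.of Ω) ⟶ X)
    (hξ : f (ξ default) = closedPoint R) : P (toBase ξ ≫ f) := by
  obtain ⟨_, _, _, h1⟩ := EtpbcB.OshHens.exists_isStrictHenselization ξ (ξ default) rfl
  obtain ⟨_, _, _, h2⟩ := exists_specOf_id R (f (ξ default)) hξ
  obtain ⟨β, hβ⟩ : ∃ β : R →+* Osh ξ, Spec.map (CommRingCat.ofHom β) = toBase ξ ≫ f :=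
    ⟨(Spec.preimage (toBase ξ ≫ f)).hom, Spec.map_preimage (toBase ξ ≫ f)⟩
  have hpt : toBase ξ (closedPoint (Osh ξ)) = ξ default := by
    rw [← EtpbcB.StrictLoc.pt_default]
    exact congrArg (fun q => q default) (EtpbcB.StrictLoc.pt_toBase ξ)
  have hloc : IsLocalHom β := by
    rw [IsLocalRing.isLocalHom_iff_comap_closedPoint]
    have h3 := congrArg (fun q => q (closedPoint (Osh ξ))) hβ
    exact h3.trans ((congrArg f hpt).trans hξ)
  let alg : Algebra R (Osh ξ) := β.toAlgebra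
  have hl : IsLocalHom (algebraMap R (Osh ξ)) := hloc
  have hcomp := (Etrest.VCBaseChange.specOf_comm f (ξ default) R (Osh ξ) β).2 (by
    rw [h1, h2, Category.comp_id]
    exact hβ)
  have key := hf (ξ default) R (Osh ξ) hcomp
  have h4 : Spec.map (CommRingCat.ofHom (algebraMap R (Osh ξ))) = toBase ξ ≫ f := hβ
  rw [h4] at key
  exact key

end Groth.Agent.Etbc.H234.FibreStalk
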