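import Groth.Agent.Etbc.H234.FibreStalk
import Groth.Agent.Etbc.H234.LerayRange

/-!
# Stalks of `R^q h_* h⁻¹ F` for a base change `h` of `t : T ⟶ B`, arbitrary base `B`

* `stalk_data`: `f : X ⟶ B`, `t : T ⟶ B` qcqs, `h : Y ⟶ X` its base change, `F` locally constant `L`-torsion on `X`, `ξ` a
  geometric point of `X` such that `Spec O^sh_ξ ×_B T` is `N`-acyclic for `L`; then `F ⟶ h_* h⁻¹ F` is bijective on
  stalks at `ξ` and `(R^q h_* h⁻¹ F)_ξ = 0` for `1 ≤ q ≤ N`.
* `Hpull_range`: if this holds at all `ξ`, then `H^q(X, F) → H^q(Y, F)` is bijective for `q ≤ N`, injective for `N + 1`.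
-/

set_option autoImplicit false

universe u

open CategoryTheory CategoryTheory.Limits AlgebraicGeometry Opposite IsLocalRing

namespace Groth.Agent.Etbc.H234.FibreStalkGen

open Groth.Agent Groth.Agent.EtpbcB.StrictLoc Groth.Agent.Etrest.StrictLoc
open Groth.Agent.Etbc.H234.FibreStalk

section stalk

variable {B X T Y : Scheme.{u}} (f : X ⟶ B) (t : T ⟶ B) [QuasiCompact t] [QuasiSeparated t]
  (h : Y ⟶ X) (e : Y ⟶ T) (hc : IsPullback h e f t)
  {Ω : Type u} [Field Ω] [IsSepClosed Ω] (ξ : Spec (CommRingCat.of Ω) ⟶ X)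

include hc in
/-- The stalks of the unit and of the higher direct images. -/
theorem stalk_data {L : Set ℕ} {N : ℕ} (F : EtCoh.Ab X) (hF : EtAcyc.IsLTorsion L F)
    (hlc : EtRest.IsLocallyConstant F)
    (hV : EtAcyc.IsAcyclicSchemeN L N (pullback (toBase ξ ≫ f) t)) :
    IsIso ((EtCoh.stalk ξ).map ((EtCoh.pullPushAdj h).unit.app F)) ∧
      ∀ q : ℕ, 1 ≤ q → q ≤ N →
        IsZero ((EtCoh.stalk ξ).obj ((EtCoh.Rpush h q).obj ((EtCoh.pull h).obj F))) := by
  have hqc : QuasiCompact h := MorphismProperty.of_isPullback hc.flip inferInstance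
  have hqs : QuasiSeparated h := MorphismProperty.of_isPullback hc.flip inferInstance
  let b : pullback (toBase ξ ≫ f) t ⟶ Spec (Osh ξ) := pullback.fst _ _
  let a : pullback (toBase ξ ≫ f) t ⟶ Y :=
    hc.lift (b ≫ toBase ξ) (pullback.snd _ _) (by rw [Category.assoc]; exact pullback.condition)
  have ha1 : a ≫ h = b ≫ toBase ξ := hc.lift_fst _ _ _
  have ha2 : a ≫ e = pullback.snd _ _ := hc.lift_snd _ _ _
  have hP : IsPullback a b h (toBase ξ) := by
    refine (IsPullback.of_bot (v₂₁ := e) (v₂₂ := f) (h₃₁ := t) (v₁₁ := a) (v₁₂ := toBase ξ)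
      (h₁₁ := b) (h₂₁ := h) ?_ ha1.symm hc).flip
    rw [ha2]
    exact IsPullback.of_hasPullback _ _
  have := henselianLocalRing ξ
  have := isSepClosed_residueField ξ
  have hb1 : QuasiCompact b := inferInstance
  have hb2 : QuasiSeparated b := inferInstance
  have hqc2 : CompactSpace ↥(pullback (toBase ξ ≫ f) t) := QuasiCompact.compactSpace_of_compactSpace b
  have hqs2 : QuasiSeparatedSpace ↥(pullback (toBase ξ ≫ f) t) :=
    quasiSeparatedSpace_of_quasiSeparated b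
  have hs : ∀ s : (EtCoh.stalk (Etbase.StrictHensPoint.pt (Osh ξ))).obj
      ((EtCoh.pull (toBase ξ)).obj F), ∃ n : ℕ, EtAcyc.PrimesIn L n ∧ n • s = 0 := fun s =>
    (isLTorsion_iff_stalk L _).1 (isLTorsion_pull L (toBase ξ) F hF) _ _ s
  have key : ∀ q : ℕ, q ≤ N →
      Function.Bijective (EtCore.Hpull b ((EtCoh.pull (toBase ξ)).obj F) q) := by
    intro q hq
    exact bijective_Hpull_strictHens' (Osh ξ) b hV ((EtCoh.pull (toBase ξ)).obj F)
      (Etrest.LCConst.isLocallyConstant_pull (toBase ξ) F hlc) hs q hq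
  refine ⟨?_, fun q h1 h2 => ?_⟩
  · rw [ConcreteCategory.isIso_iff_bijective]
    exact (EtpbcA.LA.stalk_unit_iff h F ξ hP).2 (key 0 (Nat.zero_le _))
  · exact (EtpbcA.LA.isZero_stalk_iff h F ξ hP q h1).2 (key q h2)

include hc in
/-- Comparison of cohomology when all the `Spec O^sh_ξ ×_B T` are `N`-acyclic for `L`. -/
theorem Hpull_range [PreservesFiniteLimits (EtCoh.pull h)] {L : Set ℕ} {N : ℕ} (F : EtCoh.Ab X)
    (hF : EtAcyc.IsLTorsion L F) (hlc : EtRest.IsLocallyConstant F)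
    (hV : ∀ x : X, ∃ (Ω : Type u) (_ : Field Ω) (_ : IsSepClosed Ω)
      (ξ : Spec (CommRingCat.of Ω) ⟶ X), ξ default = x ∧
        EtAcyc.IsAcyclicSchemeN L N (pullback (toBase ξ ≫ f) t)) :
    (∀ q : ℕ, q ≤ N → Function.Bijective (EtCore.Hpull h F q)) ∧
      Function.Injective (EtCore.Hpull h F (N + 1)) := by
  have h1 : IsIso ((EtCoh.pullPushAdj h).unit.app F) := by
    refine Etcore.Stalks.isIso_of_stalks _ fun x => ?_
    obtain ⟨Ω, _, _, ξ, hξ, ha⟩ := hV x
    exact ⟨Ω, inferInstance, inferInstance, ξ, hξ, (stalk_data f t h e hc ξ F hF hlc ha).1⟩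
  refine LerayRange.Hpull_range_of_isIso_unit h F N h1 fun q h1 h2 => ?_
  refine Etcore.Stalks.isZero_of_stalks _ fun x => ?_
  obtain ⟨Ω, _, _, ξ, hξ, ha⟩ := hV x
  exact ⟨Ω, inferInstance, inferInstance, ξ, hξ, (stalk_data f t h e hc ξ F hF hlc ha).2 q h1 h2⟩

end stalk

end Groth.Agent.Etbc.H234.FibreStalkGen
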